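import Groth.Agent.ProdCl28.Basic

/-!
# Two families of functions whose minimal orders differ at one point
-/

set_option autoImplicit false
set_option linter.style.haveILetI false
set_option linter.unusedSectionVars false
set_option backward.isDefEq.respectTransparency.types false
set_option maxHeartbeats 1000000

universe u

open CategoryTheory CategoryTheory.Limits AlgebraicGeometry IsLocalRing TopologicalSpace
open Groth.Agent.CycLim28 Groth.Agent.CycLib28 Groth.Agent.CDiv28 Groth.Agent.RefHullLib Groth.Agent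

noncomputable section

namespace Groth.Agent.Vert28

variable {k : Type u} [Field k] {X : Scheme.{u}} [IsIntegral X] [IsLocallyNoetherian X]

/-- `v` is the least order at `y` of a member of `F`. -/
def IsMin (F : Finset X.functionField) (y : X) (v : ℤ) : Prop :=
  (∀ a ∈ F, v ≤ Scheme.ord a y) ∧ ∃ a ∈ F, Scheme.ord a y = v

/-- Outside an affine open of a separated scheme some regular function has a pole. -/
theorem exists_pole (f : X ⟶ Spec (CommRingCat.of k)) [IsSeparated f] {U : X.Opens} (hU : IsAffineOpen U)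
    (hη : genericPoint X ∈ U) {y : X} (hy : y ∉ U) :
    ∃ a : Γ(X, U), ¬ InLoc y (show X.functionField from X.presheaf.germ U (genericPoint X) hη a) := by
  by_contra hcon
  simp only [not_exists, not_not] at hcon
  apply hy
  let κ : X.presheaf.stalk y →+* X.functionField := algebraMap _ _
  have hκ : Function.Injective κ := IsFractionRing.injective _ _
  choose s hs using hcon
  let φ : Γ(X, U) →+* X.presheaf.stalk y :=
    { toFun := s
      map_one' := hκ ((hs 1).trans ((map_one (X.presheaf.germ U (genericPoint X) hη).hom).trans (map_one κ).symm))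
      map_mul' := fun a b => hκ ((hs _).trans ((map_mul (X.presheaf.germ U (genericPoint X) hη).hom a b).trans
        ((congrArg₂ (· * ·) (hs a) (hs b)).symm.trans (map_mul κ _ _).symm)))
      map_zero' := hκ ((hs 0).trans ((map_zero (X.presheaf.germ U (genericPoint X) hη).hom).trans (map_zero κ).symm))
      map_add' := fun a b => hκ ((hs _).trans ((map_add (X.presheaf.germ U (genericPoint X) hη).hom a b).trans
        ((congrArg₂ (· + ·) (hs a) (hs b)).symm.trans (map_add κ _ _).symm))) }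
  let s1 := X.fromSpecStalk y
  let s2 := Spec.map (CommRingCat.ofHom φ) ≫ hU.fromSpec
  let j := Spec.map (X.presheaf.stalkSpecializes (genericPoint_specializes y))
  have hj : j ≫ s1 = j ≫ s2 := by
    simp only [j, s1, s2]
    rw [Scheme.SpecMap_stalkSpecializes_fromSpecStalk, ← Category.assoc, ← Spec.map_comp,
      ← hU.fromSpecStalk_eq_fromSpecStalk hη, IsAffineOpen.fromSpecStalk]
    congr 2
    ext a
    exact (hs a).symm
  haveI : IsDominant j := by
    refine ⟨?_⟩
    show DenseRange (PrimeSpectrum.comap (X.presheaf.stalkSpecializes (genericPoint_specializes y)).hom)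
    rw [PrimeSpectrum.denseRange_comap_iff_ker_le_nilRadical]
    rw [(RingHom.injective_iff_ker_eq_bot _).1]
    · exact bot_le
    · exact hκ
  letI : (Spec (X.presheaf.stalk y)).Over (Spec (CommRingCat.of k)) := ⟨s1 ≫ f⟩
  have hf : s1 ≫ f = s2 ≫ f := by
    refine ext_of_isDominant j ?_
    rw [← Category.assoc, hj, Category.assoc]
  have heq : s1 = s2 := ext_of_isDominant_of_isSeparated f hf j hj
  have h1 : s1 (closedPoint (X.presheaf.stalk y)) = y := Scheme.fromSpecStalk_closedPoint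
  rw [← h1, heq]
  have h2 : s2 (closedPoint (X.presheaf.stalk y)) ∈ Set.range hU.fromSpec :=
    ⟨Spec.map (CommRingCat.ofHom φ) (closedPoint (X.presheaf.stalk y)), rfl⟩
  rwa [hU.range_fromSpec] at h2

/-- A principal ideal power containing all generators. -/
theorem exists_generator (hX : Pi1.IsNormalScheme X) {U : X.Opens} (hU : IsAffineOpen U)
    (hη : genericPoint X ∈ U) {x : X} (hxU : x ∈ U) (hx : Order.coheight x = 1)
    (s : Finset Γ(X, U)) (hs : Ideal.span (s : Set Γ(X, U)) = (hU.primeIdealOf ⟨x, hxU⟩).asIdeal) :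
    ∃ a ∈ s, a ≠ 0 ∧ Scheme.ord (show X.functionField from X.presheaf.germ U (genericPoint X) hη a) x ≤ 1 := by
  by_contra hcon
  simp only [not_exists, not_and, not_le] at hcon
  obtain ⟨g, hg, hg1⟩ := ProdCl28.exists_ord_eq hX hx 1
  obtain ⟨g₂, hg₂, hg₂2⟩ := ProdCl28.exists_ord_eq hX hx 2
  letI := TopCat.Presheaf.algebra_section_stalk X.presheaf (⟨x, hxU⟩ : U)
  haveI := hU.isLocalization_stalk ⟨x, hxU⟩
  obtain ⟨c, hc⟩ := inLoc_of_ord_nonneg hX hx (v := g) (by omega)
  obtain ⟨c₂, hc₂⟩ := inLoc_of_ord_nonneg hX hx (v := g₂) (by omega)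
  have hmax : maximalIdeal (X.presheaf.stalk x) ≤ Ideal.span {c₂} := by
    rw [← IsLocalization.AtPrime.map_eq_maximalIdeal (hU.primeIdealOf ⟨x, hxU⟩).asIdeal
      (X.presheaf.stalk x), ← hs, Ideal.map_span, Ideal.span_le]
    rintro _ ⟨a, ha, rfl⟩
    by_cases ha0 : a = 0
    · rw [ha0, map_zero]; exact zero_mem _
    set A : X.functionField := (show X.functionField from X.presheaf.germ U (genericPoint X) hη a) with hA
    have hA0 : A ≠ 0 := fun h => ha0 (germ_injective_of_isIntegral X (genericPoint X) hη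
      (h.trans (map_zero _).symm))
    have h2 : 1 < Scheme.ord A x := hcon a ha ha0
    obtain ⟨d, hd⟩ := inLoc_of_ord_nonneg hX hx (v := A / g₂) (by
      rw [div_eq_mul_inv, Scheme.ord_mul hA0 (inv_ne_zero hg₂), ProdCl28.ord_inv hg₂, hg₂2]
      show 0 ≤ Scheme.ord A x + -2
      omega)
    refine Ideal.mem_span_singleton'.2 ⟨d, IsFractionRing.injective (X.presheaf.stalk x) X.functionField ?_⟩
    rw [map_mul, hd, hc₂, div_mul_cancel₀ _ hg₂, hA]
    exact (TopCat.Presheaf.germ_stalkSpecializes_apply X.presheaf hxU (genericPoint_specializes x) a).symm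
  have hcm : c ∈ maximalIdeal (X.presheaf.stalk x) := by
    rw [mem_maximalIdeal]
    intro hu
    have := ProdCl28.ord_of_unit hx hu.unit
    rw [IsUnit.unit_spec, hc, hg1] at this
    omega
  obtain ⟨d, hd⟩ := Ideal.mem_span_singleton'.1 (hmax hcm)
  have hd0 : algebraMap (X.presheaf.stalk x) X.functionField d ≠ 0 := fun h => hg (by
    rw [← hc, ← hd, map_mul, h, zero_mul])
  have h3 := Scheme.ord_mul (x := x) hd0 hg₂
  rw [← hc₂, ← map_mul, hd, hc, hc₂, hg1, hg₂2] at h3
  have h4 := ord_nonneg_of_inLoc hx (v := algebraMap (X.presheaf.stalk x) X.functionField d) ⟨d, rfl⟩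
  omega

/-- Two finite families whose minimal orders differ by one exactly at `x`. -/
theorem exists_families (f : X ⟶ Spec (CommRingCat.of k)) [IsSeparated f] [CompactSpace X]
    (hX : Pi1.IsNormalScheme X) {x : X} (hxc : IsClosed ({x} : Set X)) (hx : Order.coheight x = 1) :
    ∃ F₁ F₂ : Finset X.functionField, (∀ a ∈ F₁, a ≠ 0) ∧ (∀ a ∈ F₂, a ≠ 0) ∧ F₁.Nonempty ∧ F₂.Nonempty ∧
      ∀ y, Order.coheight y = 1 →
        ∃ v, (y = x → IsMin F₁ y (v + 1)) ∧ (y ≠ x → IsMin F₁ y v) ∧ IsMin F₂ y v := by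
  classical
  obtain ⟨_, ⟨U, hU, rfl⟩, hxU, -⟩ :=
    X.isBasis_affineOpens.exists_subset_of_mem_open (Set.mem_univ x) isOpen_univ
  have hη : genericPoint X ∈ U := (genericPoint_specializes x).mem_open U.2 hxU
  haveI : IsNoetherianRing Γ(X, U) := IsLocallyNoetherian.component_noetherian ⟨U, hU⟩
  obtain ⟨s, hs⟩ := IsNoetherian.noetherian (hU.primeIdealOf ⟨x, hxU⟩).asIdeal
  have hs' : Ideal.span (s : Set Γ(X, U)) = (hU.primeIdealOf ⟨x, hxU⟩).asIdeal := hs
  let G : Γ(X, U) →+* X.functionField := (X.presheaf.germ U (genericPoint X) hη).hom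
  have hG : Function.Injective G := germ_injective_of_isIntegral X (genericPoint X) hη
  obtain ⟨a₁, ha₁, ha₁0, ha₁x⟩ := exists_generator hX hU hη hxU hx s hs'
  have hnonneg : ∀ a : Γ(X, U), ∀ y, y ∈ U → Order.coheight y = 1 → 0 ≤ Scheme.ord (G a) y := by
    intro a y hy hy1
    exact ord_nonneg_of_inLoc hy1 ⟨X.presheaf.germ U y hy a,
      TopCat.Presheaf.germ_stalkSpecializes_apply X.presheaf hy (genericPoint_specializes y) a⟩
  have hzero : ∀ (a : Γ(X, U)) (y : X) (hy : y ∈ U) (hy1 : Order.coheight y = 1),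
      a ∉ (hU.primeIdealOf ⟨y, hy⟩).asIdeal → Scheme.ord (G a) y = 0 := by
    intro a y hy hy1 ha
    letI := TopCat.Presheaf.algebra_section_stalk X.presheaf (⟨y, hy⟩ : U)
    haveI := hU.isLocalization_stalk ⟨y, hy⟩
    have hu := (IsLocalization.AtPrime.isUnit_to_map_iff (X.presheaf.stalk y)
      (hU.primeIdealOf ⟨y, hy⟩).asIdeal a).2 ha
    have := ProdCl28.ord_of_unit hy1 hu.unit
    rw [IsUnit.unit_spec] at this
    have e : algebraMap (X.presheaf.stalk y) X.functionField (algebraMap Γ(X, U) (X.presheaf.stalk y) a) = G a :=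
      TopCat.Presheaf.germ_stalkSpecializes_apply X.presheaf hy (genericPoint_specializes y) a
    rwa [e] at this
  have hpos : ∀ a ∈ s, G a ≠ 0 → 1 ≤ Scheme.ord (G a) x := by
    intro a ha hne
    letI := TopCat.Presheaf.algebra_section_stalk X.presheaf (⟨x, hxU⟩ : U)
    haveI := hU.isLocalization_stalk ⟨x, hxU⟩
    by_contra hlt
    have h0 : Scheme.ord (G a) x = 0 := by have := hnonneg a x hxU hx; omega
    obtain ⟨u, hu⟩ := ProdCl28.exists_unit hX x hne fun y hy hy1 => by
      rw [eq_of_specializes_coheight_one hy1 hx hy, h0]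
    have hmem : a ∈ (hU.primeIdealOf ⟨x, hxU⟩).asIdeal := hs' ▸ Ideal.subset_span ha
    refine (IsLocalization.AtPrime.isUnit_to_map_iff (X.presheaf.stalk x)
      (hU.primeIdealOf ⟨x, hxU⟩).asIdeal a).1 ?_ hmem
    convert u.isUnit
    refine IsFractionRing.injective (X.presheaf.stalk x) X.functionField ?_
    rw [hu]
    exact TopCat.Presheaf.germ_stalkSpecializes_apply X.presheaf hxU (genericPoint_specializes x) a
  have hEfin : {y : X | Order.coheight y = 1 ∧ y ∉ U}.Finite := by
    obtain ⟨t, ht⟩ := (isCompact_univ (X := X)).elim_finite_subcover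
      (fun V : X.affineOpens => (V.1 : Set X)) (fun V => V.1.2) fun y _ => by
        obtain ⟨_, ⟨V, hV, rfl⟩, hy, -⟩ :=
          X.isBasis_affineOpens.exists_subset_of_mem_open (Set.mem_univ y) isOpen_univ
        exact Set.mem_iUnion.2 ⟨⟨V, hV⟩, hy⟩
    refine (t.finite_toSet.biUnion fun V _ =>
      CommAlg4.AffineSpaceDiv.finite_coheight_one_notMem (W := U) hη V.2).subset fun y hy => ?_
    obtain ⟨V, hV, hyV⟩ := Set.mem_iUnion₂.1 (ht (Set.mem_univ y))
    exact Set.mem_iUnion₂.2 ⟨V, hV, hyV, hy.1, hy.2⟩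
  let A := (s.image G).filter (· ≠ 0)
  have hA₁ : G a₁ ∈ A := Finset.mem_filter.2 ⟨Finset.mem_image_of_mem _ ha₁, (map_ne_zero_iff _ hG).2 ha₁0⟩
  have hψ : ∀ y : hEfin.toFinset, ∃ b : Γ(X, U), G b ≠ 0 ∧ b ∈ (hU.primeIdealOf ⟨x, hxU⟩).asIdeal ∧
      Scheme.ord (G b) y.1 < 0 ∧ ∀ a ∈ A, Scheme.ord (G b) y.1 < Scheme.ord a y.1 := by
    rintro ⟨y, hy⟩
    obtain ⟨hy1, hyU⟩ := hEfin.mem_toFinset.1 hy
    obtain ⟨φ, hφ⟩ := exists_pole f hU hη hyU
    have hφ0 : G φ ≠ 0 := fun h => hφ (by
      show InLoc y (G φ)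
      rw [h]
      exact ⟨0, map_zero _⟩)
    have hφn : Scheme.ord (G φ) y ≤ -1 := by
      by_contra hge
      exact hφ (inLoc_of_ord_nonneg hX hy1 (show 0 ≤ Scheme.ord (G φ) y by omega))
    set M : ℕ := ((∑ a ∈ A, |Scheme.ord a y|) + |Scheme.ord (G a₁) y| + 1).toNat with hM
    refine ⟨a₁ * φ ^ M, ?_, Ideal.mul_mem_right _ _ (hs' ▸ Ideal.subset_span ha₁), ?_⟩
    · rw [map_mul, map_pow]
      exact mul_ne_zero ((map_ne_zero_iff _ hG).2 ha₁0) (pow_ne_zero _ hφ0)
    · have hval : Scheme.ord (G (a₁ * φ ^ M)) y = Scheme.ord (G a₁) y + (M : ℤ) * Scheme.ord (G φ) y := by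
        rw [map_mul, map_pow, Scheme.ord_mul ((map_ne_zero_iff _ hG).2 ha₁0) (pow_ne_zero _ hφ0),
          ← zpow_natCast, CommAlg4.AffineSpaceDiv.ord_zpow y hφ0]
      have hsum : 0 ≤ ∑ a ∈ A, |Scheme.ord a y| := Finset.sum_nonneg fun a _ => abs_nonneg _
      have hMv : (M : ℤ) = (∑ a ∈ A, |Scheme.ord a y|) + |Scheme.ord (G a₁) y| + 1 := by
        rw [hM, Int.toNat_of_nonneg (by have := abs_nonneg (Scheme.ord (G a₁) y); omega)]
      have hle : (M : ℤ) * Scheme.ord (G φ) y ≤ -(M : ℤ) := by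
        have := mul_le_mul_of_nonneg_left hφn (Int.natCast_nonneg M)
        linarith
      have h₁ := le_abs_self (Scheme.ord (G a₁) y)
      refine ⟨by rw [hval]; linarith, fun a ha => ?_⟩
      have h₂ := Finset.single_le_sum (f := fun a => |Scheme.ord a y|) (fun a _ => abs_nonneg _) ha
      have h₃ := neg_abs_le (Scheme.ord a y)
      rw [hval]; linarith
  choose b hb0 hbx hbneg hblt using hψ
  let Ψ := Finset.univ.image fun y => G (b y)
  refine ⟨A ∪ Ψ, insert 1 Ψ, ?_, ?_, ⟨_, Finset.mem_union_left _ hA₁⟩, ⟨1, Finset.mem_insert_self _ _⟩,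
    fun y hy1 => ?_⟩
  · intro a ha
    rcases Finset.mem_union.1 ha with ha | ha
    · exact (Finset.mem_filter.1 ha).2
    · obtain ⟨w, -, rfl⟩ := Finset.mem_image.1 ha; exact hb0 w
  · intro a ha
    rcases Finset.mem_insert.1 ha with rfl | ha
    · exact one_ne_zero
    · obtain ⟨w, -, rfl⟩ := Finset.mem_image.1 ha; exact hb0 w
  by_cases hyU : y ∈ U
  · have hΨ : ∀ a ∈ Ψ, 0 ≤ Scheme.ord a y := by
      intro a ha
      obtain ⟨w, -, rfl⟩ := Finset.mem_image.1 ha
      exact hnonneg _ y hyU hy1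
    have h2 : IsMin (insert 1 Ψ) y 0 := by
      refine ⟨fun a ha => ?_, 1, Finset.mem_insert_self _ _, CommAlg4.AffineSpaceDiv.ord_one y⟩
      rcases Finset.mem_insert.1 ha with rfl | ha
      · rw [CommAlg4.AffineSpaceDiv.ord_one]
      · exact hΨ a ha
    refine ⟨0, fun hyx => ?_, fun hyx => ?_, h2⟩
    · subst hyx
      rw [zero_add]
      refine ⟨fun a ha => ?_, G a₁, Finset.mem_union_left _ hA₁, le_antisymm ha₁x (hpos a₁ ha₁ (Finset.mem_filter.1 hA₁).2)⟩
      rcases Finset.mem_union.1 ha with ha | ha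
      · obtain ⟨ha', hne⟩ := Finset.mem_filter.1 ha
        obtain ⟨a', has, rfl⟩ := Finset.mem_image.1 ha'
        exact hpos a' has hne
      · obtain ⟨w, -, rfl⟩ := Finset.mem_image.1 ha
        have hmem := hbx w
        by_contra hlt
        have h0 : Scheme.ord (G (b w)) y = 0 := by have := hnonneg (b w) y hxU hx; omega
        obtain ⟨u, hu⟩ := ProdCl28.exists_unit hX y (hb0 w) fun z hz hz1 => by
          rw [eq_of_specializes_coheight_one hz1 hx hz, h0]
        letI := TopCat.Presheaf.algebra_section_stalk X.presheaf (⟨y, hxU⟩ : U)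
        haveI := hU.isLocalization_stalk ⟨y, hxU⟩
        refine (IsLocalization.AtPrime.isUnit_to_map_iff (X.presheaf.stalk y)
          (hU.primeIdealOf ⟨y, hxU⟩).asIdeal (b w)).1 ?_ hmem
        convert u.isUnit
        refine IsFractionRing.injective (X.presheaf.stalk y) X.functionField ?_
        rw [hu]
        exact TopCat.Presheaf.germ_stalkSpecializes_apply X.presheaf hxU (genericPoint_specializes y) (b w)
    · obtain ⟨a, ha, hay⟩ : ∃ a ∈ s, a ∉ (hU.primeIdealOf ⟨y, hyU⟩).asIdeal := by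
        by_contra hall
        simp only [not_exists, not_and, not_not] at hall
        have hle : (hU.primeIdealOf ⟨x, hxU⟩).asIdeal ≤ (hU.primeIdealOf ⟨y, hyU⟩).asIdeal :=
          hs' ▸ Ideal.span_le.2 hall
        have hsp : x ⤳ y := by
          have := ((PrimeSpectrum.le_iff_specializes (hU.primeIdealOf ⟨x, hxU⟩) (hU.primeIdealOf ⟨y, hyU⟩)).1
            hle).map hU.fromSpec.continuous
          rwa [hU.fromSpec_primeIdealOf, hU.fromSpec_primeIdealOf] at this
        exact hyx (specializes_iff_mem_closure.1 hsp |> fun h => by rwa [hxc.closure_eq] at h)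
      have hne : G a ≠ 0 := by
        rw [map_ne_zero_iff _ hG]
        rintro rfl
        exact hay (zero_mem _)
      refine ⟨fun c hc => ?_, G a, Finset.mem_union_left _ (Finset.mem_filter.2 ⟨Finset.mem_image_of_mem _ ha, hne⟩),
        hzero a y hyU hy1 hay⟩
      rcases Finset.mem_union.1 hc with hc | hc
      · obtain ⟨a', has, rfl⟩ := Finset.mem_image.1 (Finset.mem_filter.1 hc).1
        exact hnonneg a' y hyU hy1
      · exact hΨ c hc
  · let w : hEfin.toFinset := ⟨y, hEfin.mem_toFinset.2 ⟨hy1, hyU⟩⟩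
    have hwΨ : G (b w) ∈ Ψ := Finset.mem_image.2 ⟨w, Finset.mem_univ _, rfl⟩
    obtain ⟨c, hc, hmin⟩ := Finset.exists_min_image Ψ (fun a => Scheme.ord a y) ⟨_, hwΨ⟩
    have hcle := hmin _ hwΨ
    refine ⟨Scheme.ord c y, fun hyx => absurd (hyx ▸ hxU) hyU, fun _ => ⟨fun a ha => ?_, c, Finset.mem_union_right _ hc, rfl⟩,
      fun a ha => ?_, c, Finset.mem_insert_of_mem hc, rfl⟩
    · rcases Finset.mem_union.1 ha with ha | ha
      · exact hcle.trans (hblt w a ha).le
      · exact hmin a ha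
    · rcases Finset.mem_insert.1 ha with rfl | ha
      · rw [CommAlg4.AffineSpaceDiv.ord_one]; exact hcle.trans (hbneg w).le
      · exact hmin a ha

end Groth.Agent.Vert28
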