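import Groth.Agent.Vert28.Fibre
import Groth.Agent.Vert28.Coll
import Groth.Agent.ProdCl28.Inj
import Groth.Agent.CDiv28.Build
import Groth.Agent.FlatMorLocalStr.SmoothFibres
import Groth.Agent.Strat24.Span

/-!
# Removing vertical components on the affine line over a curve
-/

set_option autoImplicit false
set_option linter.style.haveILetI false
set_option linter.unusedSectionVars false
set_option backward.isDefEq.respectTransparency.types false
set_option maxHeartbeats 1000000

universe u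

open CategoryTheory CategoryTheory.Limits AlgebraicGeometry IsLocalRing TopologicalSpace Polynomial
open Groth.Agent.CycLim28 Groth.Agent.CycLib28 Groth.Agent.CDiv28 Groth.Agent.RefHullLib Groth.Agent

noncomputable section

namespace Groth.Agent.Vert28

variable {k : Type u} [Field k] {X P : Scheme.{u}} {f : X ⟶ Spec (CommRingCat.of k)} {p₁ : P ⟶ X}
  {p₂ : P ⟶ Spec (CommRingCat.of (Polynomial k))} [IsIntegral X] [IsLocallyNoetherian X] [IsIntegral P]
  [IsLocallyNoetherian P] [Flat p₁] [∀ x, IsIntegral (p₁.fiber x)]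

/-- Pullback of rational functions. -/
def pullRat (p : P ⟶ X) [Flat p] [∀ x, IsIntegral (p.fiber x)] : X.functionField →+* P.functionField :=
  (X.presheaf.stalkSpecializes (specializes_of_eq (ProdCl28.p_genericPoint p)) ≫ p.stalkMap (genericPoint P)).hom

theorem pullRat_algebraMap (y : X) (b : X.presheaf.stalk y) :
    pullRat p₁ (algebraMap (X.presheaf.stalk y) X.functionField b) =
      algebraMap (P.presheaf.stalk (ProdCl28.fgen p₁ y)) P.functionField
        (((X.presheaf.stalkSpecializes (specializes_of_eq (ProdCl28.p_fgen p₁ y))) ≫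
          p₁.stalkMap (ProdCl28.fgen p₁ y)).hom b) := by
  obtain ⟨U, hU, r, rfl⟩ := X.presheaf.exists_germ_eq b
  show (p₁.stalkMap (genericPoint P)).hom ((X.presheaf.stalkSpecializes _).hom
    ((X.presheaf.stalkSpecializes (genericPoint_specializes y)).hom (X.presheaf.germ U y hU r))) =
    (P.presheaf.stalkSpecializes (genericPoint_specializes _)).hom
      ((p₁.stalkMap _).hom ((X.presheaf.stalkSpecializes _).hom (X.presheaf.germ U y hU r)))
  rw [TopCat.Presheaf.germ_stalkSpecializes_apply, TopCat.Presheaf.germ_stalkSpecializes_apply,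
    TopCat.Presheaf.germ_stalkSpecializes_apply, Scheme.Hom.germ_stalkMap_apply, Scheme.Hom.germ_stalkMap_apply,
    TopCat.Presheaf.germ_stalkSpecializes_apply]

variable (p₁ p₂) in
/-- The polynomial in the coordinate with the given coefficients. -/
def poly (F : Finset X.functionField) : P.functionField :=
  ∑ a : F, pullRat p₁ a.1 *
    (show P.functionField from P.presheaf.germ ⊤ (genericPoint P) trivial (coord (p₂ := p₂))) ^
      (Fintype.equivFin F a).1

variable (hP : IsPullback p₁ p₂ f (line k)) {δP : P → ℤ} {δX : X → ℤ}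
  (hδP : Cyc.IsDimFun P δP) (hδX : Cyc.IsDimFun X δX)

include hP hδP hδX

theorem ord_poly (hX : Pi1.IsNormalScheme X) {F : Finset X.functionField} (hF : ∀ a ∈ F, a ≠ 0) {y : X}
    (hy : Order.coheight y = 1) {v : ℤ} (hv : IsMin F y v) :
    poly p₁ p₂ F ≠ 0 ∧ Scheme.ord (poly p₁ p₂ F) (ProdCl28.fgen p₁ y) = v := by
  classical
  obtain ⟨π, hπ, hπv⟩ := ProdCl28.exists_ord_eq hX hy v
  have hb : ∀ a : F, ∃ b : X.presheaf.stalk y, algebraMap (X.presheaf.stalk y) X.functionField b = a.1 / π :=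
    fun a => inLoc_of_ord_nonneg hX hy (by
      rw [div_eq_mul_inv, Scheme.ord_mul (hF _ a.2) (inv_ne_zero hπ), ProdCl28.ord_inv hπ, hπv]
      have := hv.1 _ a.2
      omega)
  choose b hb using hb
  obtain ⟨a₀, ha₀, ha₀v⟩ := hv.2
  obtain ⟨u, hu⟩ := ProdCl28.exists_unit hX y (φ := a₀ / π) (div_ne_zero (hF _ ha₀) hπ) fun z hz hz1 => by
    rw [eq_of_specializes_coheight_one hz1 hy hz, div_eq_mul_inv, Scheme.ord_mul (hF _ ha₀) (inv_ne_zero hπ),
      ProdCl28.ord_inv hπ, hπv, ha₀v, add_neg_cancel]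
  let Q : Polynomial (X.presheaf.stalk y) := ∑ a : F, Polynomial.C (b a) * Polynomial.X ^ (Fintype.equivFin F a).1
  have hQ : Q.coeff (Fintype.equivFin F ⟨a₀, ha₀⟩).1 = b ⟨a₀, ha₀⟩ := by
    simp only [Q, Polynomial.finsetSum_coeff, Polynomial.coeff_C_mul_X_pow]
    rw [Finset.sum_eq_single (⟨a₀, ha₀⟩ : F)]
    · rw [if_pos rfl]
    · intro a _ hne
      rw [if_neg]
      exact fun e => hne ((Fintype.equivFin F).injective (Fin.ext e)).symm
    · simp
  have hunit : IsUnit (Q.coeff (Fintype.equivFin F ⟨a₀, ha₀⟩).1) := by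
    rw [hQ]
    have : b ⟨a₀, ha₀⟩ = u := IsFractionRing.injective (X.presheaf.stalk y) X.functionField
      ((hb ⟨a₀, ha₀⟩).trans hu.symm)
    rw [this]
    exact u.isUnit
  have hQu := isUnit_eval hP y Q hunit
  set ξ := ProdCl28.fgen p₁ y
  set e := Q.eval₂ ((X.presheaf.stalkSpecializes (specializes_of_eq (ProdCl28.p_fgen p₁ y))) ≫
      p₁.stalkMap ξ).hom (P.presheaf.germ ⊤ ξ trivial (coord (p₂ := p₂))) with he
  have hsum : poly p₁ p₂ F = pullRat p₁ π * algebraMap (P.presheaf.stalk ξ) P.functionField e := by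
    have hT : algebraMap (P.presheaf.stalk ξ) P.functionField (P.presheaf.germ ⊤ ξ trivial (coord (p₂ := p₂))) =
        (show P.functionField from P.presheaf.germ ⊤ (genericPoint P) trivial (coord (p₂ := p₂))) :=
      TopCat.Presheaf.germ_stalkSpecializes_apply P.presheaf (show ξ ∈ (⊤ : P.Opens) from trivial)
        (genericPoint_specializes ξ) _
    simp only [he, Q, poly, Polynomial.eval₂_finsetSum, map_sum, Finset.mul_sum]
    refine Finset.sum_congr rfl fun a _ => ?_
    rw [Polynomial.eval₂_mul, Polynomial.eval₂_C, Polynomial.eval₂_pow, Polynomial.eval₂_X, map_mul, map_pow,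
      hT, ← pullRat_algebraMap, hb, ← mul_assoc, ← map_mul, mul_div_cancel₀ _ hπ]
  have hξ1 : δP ξ + 1 = δP (genericPoint P) := by
    have h1 : ξ = ProdCl28.fgen p₁ y := rfl
    rw [h1, ProdCl28.delta_fgen p₁ hδP hδX]
    have := (ProdCl28.coheight_iff hδX y).1 hy
    omega
  have hξc := (ProdCl28.coheight_iff hδP ξ).2 hξ1
  have hπ' : pullRat p₁ π ≠ 0 := (map_ne_zero_iff _ (pullRat p₁).injective).2 hπ
  have he0 : algebraMap (P.presheaf.stalk ξ) P.functionField e ≠ 0 := (hQu.map _).ne_zero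
  refine ⟨hsum ▸ mul_ne_zero hπ' he0, ?_⟩
  rw [hsum, Scheme.ord_mul hπ' he0]
  have h0 := ProdCl28.ord_of_unit hξc hQu.unit
  rw [IsUnit.unit_spec] at h0
  rw [h0, add_zero]
  have h1 := ProdCl28.ord_pull p₁ hδP hδX hπ hξ1 (specializes_of_eq (ProdCl28.p_genericPoint p₁).symm)
  refine h1.trans ?_
  have h2 : p₁ ξ = y := ProdCl28.p_fgen p₁ y
  rw [if_pos (by rw [h2]; exact ProdCl28.delta_fgen p₁ hδP hδX y), h2, hπv]

theorem exists_prime_divisor [IsSeparated f] [CompactSpace X] (hX : Pi1.IsNormalScheme X) {x : X}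
    (hxc : IsClosed ({x} : Set X)) (hx : Order.coheight x = 1) :
    ∃ Φ : P.functionField, Φ ≠ 0 ∧ ∀ y, Order.coheight y = 1 →
      (y = x → Scheme.ord Φ (ProdCl28.fgen p₁ y) = 1) ∧ (y ≠ x → Scheme.ord Φ (ProdCl28.fgen p₁ y) = 0) := by
  obtain ⟨F₁, F₂, h1, h2, -, -, hF⟩ := exists_families f hX hxc hx
  obtain ⟨v, hv1, -, hv2⟩ := hF x hx
  have hn1 := (ord_poly hP hδP hδX hX h1 hx (hv1 rfl)).1
  have hn2 := (ord_poly hP hδP hδX hX h2 hx hv2).1
  refine ⟨poly p₁ p₂ F₁ / poly p₁ p₂ F₂, div_ne_zero hn1 hn2, fun y hy => ?_⟩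
  obtain ⟨w, hw1, hw1', hw2⟩ := hF y hy
  rw [div_eq_mul_inv, Scheme.ord_mul hn1 (inv_ne_zero hn2), ProdCl28.ord_inv hn2,
    (ord_poly hP hδP hδX hX h2 hy hw2).2]
  refine ⟨fun e => ?_, fun e => ?_⟩
  · rw [(ord_poly hP hδP hδX hX h1 hy (hw1 e)).2]; omega
  · rw [(ord_poly hP hδP hδX hX h1 hy (hw1' e)).2]; omega

omit [IsIntegral P] [IsLocallyNoetherian P] [Flat p₁] [∀ x, IsIntegral (p₁.fiber x)] hP hδP hδX in
theorem exists_isDimFun (hdim : topologicalKrullDim X ≤ 1) : ∃ δ : X → ℤ, Cyc.IsDimFun X δ := by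
  classical
  refine ⟨fun x => if x = genericPoint X then 1 else 0, fun x y hxy hne => ?_⟩
  have hy : y ≠ genericPoint X := fun e => hne (((e ▸ hxy).antisymm (genericPoint_specializes x)).eq.trans e.symm)
  have hx : x = genericPoint X := by
    by_contra h
    exact hne (eq_of_specializes_coheight_one (coheight_eq_one_of_ne_genericPoint hdim h)
      (coheight_eq_one_of_ne_genericPoint hdim hy) hxy)
  simp only [if_pos hx, if_neg hy]
  exact ⟨by omega, fun _ => by omega⟩

omit [IsIntegral X] [IsLocallyNoetherian X] [IsIntegral P] [IsLocallyNoetherian P] [Flat p₁]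
  [∀ x, IsIntegral (p₁.fiber x)] hP hδP hδX in
theorem main [IsIntegral X] [IsProper f] [Smooth f] (hdim : topologicalKrullDim X = 1)
    (hP : IsPullback p₁ p₂ f (line k)) (hδ : Cyc.IsSetup P δP) (c : ℤ)
    (hc : ∀ z : P, IsClosed ({z} : Set P) → δP z + 1 = c) (α : AlgebraicCycle P ℤ) (hα : α ∈ Cyc.Zk P δP c) :
    ∃ β ∈ Cyc.Zk P δP c, Cyc.RatEquiv δP c α β ∧ ∀ z : P, β z ≠ 0 → p₁ z = genericPoint X := by
  classical
  haveI : IsLocallyNoetherian X := LocallyOfFiniteType.isLocallyNoetherian f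
  haveI := hδ.1
  haveI := flat_fst hP
  haveI := locallyOfFiniteType_fst hP
  haveI := geometricallyIntegral_fst hP
  haveI := quasiCompact_fst hP
  haveI := isIntegral_total hP
  haveI : CompactSpace X := QuasiCompact.compactSpace_of_compactSpace f
  haveI : CompactSpace P := QuasiCompact.compactSpace_of_compactSpace p₁
  letI : X.Over (Spec (CommRingCat.of k)) := ⟨f⟩
  have hX : Pi1.IsNormalScheme X := FlatMorLocalStr.isNormalScheme_of_smooth_field f
  obtain ⟨δX, hδX⟩ := exists_isDimFun (X := X) hdim.le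
  have hclosed : ∀ y : X, y ≠ genericPoint X → IsClosed ({y} : Set X) := fun y hy => by
    refine isClosed_of_closure_subset fun w hw => ?_
    have hs : y ⤳ w := specializes_iff_mem_closure.2 hw
    have hwne : w ≠ genericPoint X := fun e => hy ((e ▸ hs).antisymm (genericPoint_specializes y)).eq
    exact (eq_of_specializes_coheight_one (coheight_eq_one_of_ne_genericPoint hdim.le hy)
      (coheight_eq_one_of_ne_genericPoint hdim.le hwne) hs).symm
  have hvert : ∀ z, δP z = c → p₁ z ≠ genericPoint X → z = ProdCl28.fgen p₁ (p₁ z) := fun z hz hne => by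
    by_contra h
    have := hc z (isClosed_or_eq_fgen hP (hclosed _ hne) rfl h)
    omega
  by_cases hall : ∀ z, α z ≠ 0 → p₁ z = genericPoint X
  · refine ⟨α, hα, ?_, hall⟩
    refine ⟨PEmpty.{u + 1}, fun i => i.elim, fun i => i.elim, fun i => i.elim, fun i => i.elim,
      fun x => ⟨Set.univ, isOpen_univ, trivial, Set.toFinite _⟩, fun x => ?_⟩
    rw [finsum_of_isEmpty]
    exact sub_self (α x)
  simp only [not_forall] at hall
  obtain ⟨z₀, hz₀, hz₀v⟩ := hall
  have hgen : δP (genericPoint P) - 1 = c := by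
    have hz : δP z₀ = c := by by_contra h; exact hz₀ (hα _ h)
    rw [← hz, hvert z₀ hz hz₀v, ProdCl28.delta_fgen p₁ hδ.2.2 hδX]
    have := (ProdCl28.coheight_iff hδX (p₁ z₀)).1 (coheight_eq_one_of_ne_genericPoint hdim.le hz₀v)
    omega
  have hfin := Strat24.finite_support α
  let S : Finset X := (hfin.toFinset.image fun z => p₁ z).filter fun x => x ≠ genericPoint X
  choose Φ hΦ0 hΦ using fun x : S => exists_prime_divisor hP hδ.2.2 hδX hX
    (hclosed x.1 (Finset.mem_filter.1 x.2).2) (coheight_eq_one_of_ne_genericPoint hdim.le (Finset.mem_filter.1 x.2).2)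
  let H : P.functionField := ∏ x : S, Φ x ^ α (ProdCl28.fgen p₁ x.1)
  have hH : H ≠ 0 := Finset.prod_ne_zero_iff.2 fun x _ => zpow_ne_zero _ (hΦ0 x)
  obtain ⟨D, hD⟩ := exists_cycle_sum hδ.2.2 (ι := PUnit.{u + 1}) (fun _ => genericPoint P)
    (fun _ => P.residue (genericPoint P) H) (fun _ => ProdCl28.residue_ne_zero hH)
    (fun _ => ⟨Set.univ, isOpen_univ, trivial, Set.toFinite _⟩)
  replace hD : ∀ x, D x = Cyc.divFun δP (genericPoint P) (P.residue (genericPoint P) H) x := fun x => by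
    rw [hD x, finsum_unique]
  have hDk : D ∈ Cyc.Zk P δP c := fun x hx => by
    rw [hD]; exact divFun_eq_zero_of_delta _ (by omega)
  refine ⟨α - D, fun x hx => ?_, ?_, fun z hz => ?_⟩
  · show α x - D x = 0
    rw [hα x hx, hDk x hx, sub_zero]
  · show Cyc.RatEquivZero δP c (α - (α - D))
    rw [sub_sub_cancel]
    exact ⟨PUnit.{u + 1}, fun _ => genericPoint P, fun _ => P.residue (genericPoint P) H,
      fun _ => show δP (genericPoint P) = c + 1 by omega, fun _ => ProdCl28.residue_ne_zero hH,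
      fun _ => ⟨Set.univ, isOpen_univ, trivial, Set.toFinite _⟩, fun x => by rw [hD x, finsum_unique]⟩
  · by_contra hne
    apply hz
    show α z - D z = 0
    by_cases hzc : δP z = c
    swap
    · rw [hα z hzc, hDk z hzc, sub_zero]
    have hco : δP z + 1 = δP (genericPoint P) := by omega
    have hcy := coheight_eq_one_of_ne_genericPoint hdim.le hne
    rw [hD, ProdCl28.divFun_residue hδ.2.2 H hco,
      CommAlg4.AffineSpaceDiv.ord_prod z Finset.univ _ fun x : S => zpow_ne_zero _ (hΦ0 x)]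
    simp only [CommAlg4.AffineSpaceDiv.ord_zpow z (hΦ0 _)]
    have hzf := hvert z hzc hne
    by_cases hzS : p₁ z ∈ S
    · rw [Finset.sum_eq_single (⟨p₁ z, hzS⟩ : S) (fun x _ hx => by
        rw [hzf, (hΦ x _ hcy).2 (fun e => hx (Subtype.ext e.symm)), mul_zero]) (by simp)]
      have hkey := (hΦ ⟨p₁ z, hzS⟩ _ hcy).1 rfl
      rw [show Scheme.ord (Φ ⟨p₁ z, hzS⟩) z = 1 from (congrArg _ hzf).trans hkey, mul_one]
      exact sub_eq_zero.2 (congrArg α hzf)
    · have h0 : α z = 0 := by
        by_contra hαz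
        exact hzS (Finset.mem_filter.2 ⟨Finset.mem_image.2 ⟨z, hfin.mem_toFinset.2 hαz, rfl⟩, hne⟩)
      rw [h0, Finset.sum_eq_zero (fun x _ => by
        rw [hzf, (hΦ x _ hcy).2 (fun e => hzS (e ▸ x.2)), mul_zero]), sub_zero]

end Groth.Agent.Vert28
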