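import Groth.Agent.ProdCl28.Basic

/-!
# The affine line over a scheme: fibres and Gauss orders
-/

set_option autoImplicit false
set_option linter.style.haveILetI false
set_option linter.unusedSectionVars false
set_option backward.isDefEq.respectTransparency.types false
set_option maxHeartbeats 1000000

universe u

open CategoryTheory CategoryTheory.Limits AlgebraicGeometry IsLocalRing TopologicalSpace Polynomial
open Groth.Agent.CycLim28 Groth.Agent.CycLib28 Groth.Agent.CDiv28 Groth.Agent.RefHullLib Groth.Agent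

noncomputable section

namespace Groth.Agent.Vert28

variable (k : Type u) [Field k]

/-- The affine line over `k`. -/
abbrev line : Spec (CommRingCat.of (Polynomial k)) ⟶ Spec (CommRingCat.of k) :=
  Spec.map (CommRingCat.ofHom (Polynomial.C : k →+* Polynomial k))

variable {k}

theorem isPullback_line {R : Type u} [CommRing R] (φ : k →+* R) :
    IsPullback (Spec.map (CommRingCat.ofHom (Polynomial.mapRingHom φ)))
      (Spec.map (CommRingCat.ofHom (Polynomial.C : R →+* Polynomial R))) (line k)
      (Spec.map (CommRingCat.ofHom φ)) := by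
  algebraize [φ, Polynomial.mapRingHom φ]
  exact (isPullback_SpecMap_of_isPushout _ _ _ _
    (CommRingCat.isPushout_of_isPushout k R (Polynomial k) (Polynomial R))).flip

theorem geometricallyIntegral_line : GeometricallyIntegral (line k) := by
  refine ⟨fun K _ y Z fst snd h => ?_⟩
  obtain ⟨φ, rfl⟩ : ∃ φ, Spec.map φ = y := ⟨_, Spec.map_preimage _⟩
  haveI : IsIntegral (Spec (CommRingCat.of (Polynomial K))) := inferInstance
  let e := (isPullback_line φ.hom).isoIsPullback _ _ h
  haveI : Nonempty Z := ⟨e.hom (genericPoint (Spec (CommRingCat.of (Polynomial K))))⟩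
  exact isIntegral_of_isOpenImmersion e.inv

theorem flat_line : Flat (line k) := DimLib.flat_over_field _

theorem locallyOfFiniteType_line : LocallyOfFiniteType (line k) := by
  rw [HasRingHomProperty.Spec_iff (P := @LocallyOfFiniteType)]
  exact (RingHom.finiteType_algebraMap (A := k) (B := Polynomial k)).2 inferInstance

variable {X P : Scheme.{u}} {f : X ⟶ Spec (CommRingCat.of k)} {p₁ : P ⟶ X}
  {p₂ : P ⟶ Spec (CommRingCat.of (Polynomial k))} (hP : IsPullback p₁ p₂ f (line k))

include hP

theorem geometricallyIntegral_fst : GeometricallyIntegral p₁ :=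
  MorphismProperty.of_isPullback hP.flip geometricallyIntegral_line

theorem flat_fst : Flat p₁ := MorphismProperty.of_isPullback hP.flip flat_line

theorem locallyOfFiniteType_fst : LocallyOfFiniteType p₁ :=
  MorphismProperty.of_isPullback hP.flip locallyOfFiniteType_line

theorem quasiCompact_fst : QuasiCompact p₁ :=
  MorphismProperty.of_isPullback hP.flip (inferInstanceAs (QuasiCompact (line k)))

theorem isIntegral_total [IsIntegral X] [IsLocallyNoetherian X] : IsIntegral P := by
  haveI := geometricallyIntegral_fst hP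
  haveI := flat_fst hP
  haveI := locallyOfFiniteType_fst hP
  haveI : LocallyOfFinitePresentation p₁ := inferInstance
  exact GeometricallyIntegral.isIntegral_of_isLocallyNoetherian p₁

/-- The coordinate of the line. -/
def coord : Γ(P, ⊤) := p₂.appTop ((Scheme.ΓSpecIso (CommRingCat.of (Polynomial k))).inv Polynomial.X)

omit hP in
theorem exists_const {K : Type u} [Field K] (x : Spec (CommRingCat.of K))
    (a : (Spec (CommRingCat.of K)).presheaf.stalk x) :
    ∃ c : K, (Spec (CommRingCat.of K)).presheaf.germ ⊤ x trivial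
      ((Scheme.ΓSpecIso (CommRingCat.of K)).inv c) = a := by
  obtain ⟨U, hU, r, rfl⟩ := (Spec (CommRingCat.of K)).presheaf.exists_germ_eq a
  obtain rfl : U = ⊤ := by
    ext y
    simp only [Opens.coe_top, Set.mem_univ, iff_true]
    haveI : Subsingleton ↥(Spec (CommRingCat.of K)) := inferInstanceAs (Subsingleton (PrimeSpectrum K))
    exact Subsingleton.elim x y ▸ hU
  exact ⟨(Scheme.ΓSpecIso (CommRingCat.of K)).hom r, by
    rw [← CommRingCat.comp_apply (Scheme.ΓSpecIso (CommRingCat.of K)).hom, Iso.hom_inv_id]; rfl⟩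

/-- A polynomial with a unit coefficient is a unit at the generic point of the fibre. -/
theorem isUnit_eval [IsIntegral X] [IsLocallyNoetherian X] [IsIntegral P] [IsLocallyNoetherian P]
    [∀ x, IsIntegral (p₁.fiber x)] [Flat p₁] (y : X)
    (Q : Polynomial (X.presheaf.stalk y)) {i : ℕ} (hi : IsUnit (Q.coeff i)) :
    IsUnit (Q.eval₂ ((X.presheaf.stalkSpecializes (specializes_of_eq (ProdCl28.p_fgen p₁ y))) ≫
      p₁.stalkMap (ProdCl28.fgen p₁ y)).hom
      (P.presheaf.germ ⊤ (ProdCl28.fgen p₁ y) trivial (coord (p₂ := p₂)))) := by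
  classical
  let φ : CommRingCat.of k ⟶ X.residueField y := Spec.preimage (X.fromSpecResidueField y ≫ f)
  have hφ : Spec.map φ = X.fromSpecResidueField y ≫ f := Spec.map_preimage _
  let j := Spec.map (CommRingCat.ofHom (Polynomial.C : X.residueField y →+* Polynomial (X.residueField y)))
  let g := Spec.map (CommRingCat.ofHom (Polynomial.mapRingHom φ.hom))
  have hsq : IsPullback g j (line k) (Spec.map φ) := isPullback_line φ.hom
  have hw : (j ≫ X.fromSpecResidueField y) ≫ f = g ≫ line k := by
    rw [Category.assoc, ← hφ, hsq.w]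
  let m := hP.lift (j ≫ X.fromSpecResidueField y) g hw
  have hmf : m ≫ p₁ = j ≫ X.fromSpecResidueField y := hP.lift_fst _ _ _
  have hms : m ≫ p₂ = g := hP.lift_snd _ _ _
  have hpb : IsPullback m j p₁ (X.fromSpecResidueField y) := by
    refine IsPullback.of_right ?_ hmf hP.flip
    rw [hms, ← hφ]
    exact hsq
  obtain ⟨η, hη, hηs⟩ : ∃ η : Spec (CommRingCat.of (Polynomial (X.residueField y))),
      η = (⊥ : PrimeSpectrum (Polynomial (X.residueField y))) ∧ ∀ t, η ⤳ t :=
    ⟨(⊥ : PrimeSpectrum (Polynomial (X.residueField y))), rfl, fun t =>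
      (PrimeSpectrum.le_iff_specializes _ t).1 bot_le⟩
  have hmη : m η = ProdCl28.fgen p₁ y := by
    have hy : p₁ (m η) = y := by
      rw [← Scheme.Hom.comp_apply, hmf, Scheme.Hom.comp_apply, Scheme.fromSpecResidueField_apply]
    obtain ⟨pt⟩ : Nonempty ↥(Spec (X.residueField y)) := inferInstance
    obtain ⟨t, ht, -⟩ := Scheme.exists_preimage_of_isPullback hpb (ProdCl28.fgen p₁ y) pt
      (by rw [ProdCl28.p_fgen, Scheme.fromSpecResidueField_apply])
    have h1 : m η ⤳ ProdCl28.fgen p₁ y := ht ▸ (hηs t).map m.continuous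
    have h2 := ProdCl28.fgen_specializes p₁ (m η)
    rw [hy] at h2
    exact (h1.antisymm h2).eq
  generalize ProdCl28.p_fgen p₁ y = e
  revert e
  rw [← hmη]
  intro e
  set ξ := m η
  set σ := ((X.presheaf.stalkSpecializes (specializes_of_eq e)) ≫ p₁.stalkMap ξ).hom
  let A := CommRingCat.of (Polynomial (X.residueField y))
  let ev : Polynomial (X.residueField y) →+* (Spec A).presheaf.stalk η :=
    ((Scheme.ΓSpecIso A).inv ≫ (Spec A).presheaf.germ ⊤ η trivial).hom
  have hev : Function.Injective ev := by
    intro a b hab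
    obtain rfl : η = genericPoint (Spec A) :=
      ((hηs _).antisymm (genericPoint_specializes _)).eq
    exact (Scheme.ΓSpecIso A).commRingCatIsoToRingEquiv.symm.injective
      (germ_injective_of_isIntegral (Spec A) (genericPoint (Spec A))
        (show genericPoint (Spec A) ∈ (⊤ : (Spec A).Opens) from trivial) hab)
  haveI : IsDomain ((Spec A).presheaf.stalk η) := inferInstance
  have hT : (m.stalkMap η).hom (P.presheaf.germ ⊤ ξ trivial (coord (p₂ := p₂))) = ev Polynomial.X := by
    have h1 := congrArg (fun h => h.appTop ((Scheme.ΓSpecIso (CommRingCat.of (Polynomial k))).inv Polynomial.X)) hms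
    simp only [Scheme.Hom.comp_appTop] at h1
    have h2 : g.appTop ((Scheme.ΓSpecIso (CommRingCat.of (Polynomial k))).inv Polynomial.X) =
        (Scheme.ΓSpecIso A).inv Polynomial.X :=
      (congrArg (fun h => h Polynomial.X)
        (Scheme.ΓSpecIso_inv_naturality (CommRingCat.ofHom (Polynomial.mapRingHom φ.hom)))).symm.trans
        (congrArg (Scheme.ΓSpecIso A).inv (Polynomial.map_X φ.hom))
    rw [Scheme.Hom.germ_stalkMap_apply]
    exact congrArg ((Spec A).presheaf.germ ⊤ η trivial) (h1.trans h2)
  have hC : ∀ b : X.presheaf.stalk y, ∃ c : X.residueField y, (m.stalkMap η).hom (σ b) = ev (Polynomial.C c) ∧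
      (IsUnit b → c ≠ 0) := by
    intro b
    have h1 : (m.stalkMap η).hom (σ b) = (j.stalkMap η).hom (((X.fromSpecResidueField y).stalkMap (j η)).hom
        ((X.presheaf.stalkSpecializes (specializes_of_eq (Scheme.fromSpecResidueField_apply y (j η)))).hom b)) := by
      obtain ⟨U, hU, r, rfl⟩ := X.presheaf.exists_germ_eq b
      simp only [σ, CommRingCat.hom_comp, RingHom.comp_apply]
      rw [TopCat.Presheaf.germ_stalkSpecializes_apply, TopCat.Presheaf.germ_stalkSpecializes_apply,
        Scheme.Hom.germ_stalkMap_apply, Scheme.Hom.germ_stalkMap_apply, Scheme.Hom.germ_stalkMap_apply]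
      refine Eq.trans ?_ (Scheme.Hom.germ_stalkMap_apply j _ η _ _).symm
      have key : ∀ (F G : Spec A ⟶ X) (hFG : F = G) (hF : η ∈ F ⁻¹ᵁ U) (hG : η ∈ G ⁻¹ᵁ U),
          (Spec A).presheaf.germ (F ⁻¹ᵁ U) η hF (F.app U r) = (Spec A).presheaf.germ (G ⁻¹ᵁ U) η hG (G.app U r) := by
        rintro F G rfl hF hG; rfl
      exact key (m ≫ p₁) (j ≫ X.fromSpecResidueField y) hmf _ _
    obtain ⟨c, hc⟩ := exists_const (j η) (((X.fromSpecResidueField y).stalkMap (j η)).hom
        ((X.presheaf.stalkSpecializes (specializes_of_eq (Scheme.fromSpecResidueField_apply y (j η)))).hom b))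
    refine ⟨c, ?_, fun hb h0 => ?_⟩
    · rw [h1, ← hc, Scheme.Hom.germ_stalkMap_apply]
      refine congrArg ((Spec A).presheaf.germ ⊤ η trivial) ?_
      exact (congrArg (fun h => h c) (Scheme.ΓSpecIso_inv_naturality
        (CommRingCat.ofHom (Polynomial.C : X.residueField y →+* Polynomial (X.residueField y))))).symm
    · rw [h0, map_zero, map_zero] at hc
      exact not_isUnit_zero (hc ▸ (hb.map _).map _)
  choose c hc hc0 using hC
  refine IsUnit.of_map (m.stalkMap η).hom _ ?_
  obtain rfl : η = genericPoint (Spec A) :=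
    ((hηs _).antisymm (genericPoint_specializes _)).eq
  refine Ne.isUnit ?_
  rw [Polynomial.hom_eval₂, hT]
  have : Q.eval₂ ((m.stalkMap (genericPoint (Spec A))).hom.comp σ) (ev Polynomial.X) =
      ev (∑ n ∈ Q.support, Polynomial.C (c (Q.coeff n)) * Polynomial.X ^ n) := by
    rw [Polynomial.eval₂_eq_sum, Polynomial.sum_def, map_sum]
    refine Finset.sum_congr rfl fun n _ => ?_
    rw [map_mul, map_pow, RingHom.comp_apply, hc]
  rw [this, map_ne_zero_iff _ hev]
  intro h0
  have := congrArg (fun F => Polynomial.coeff F i) h0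
  simp only [Polynomial.finsetSum_coeff, Polynomial.coeff_C_mul_X_pow, Finset.sum_ite_eq, coeff_zero] at this
  rw [if_pos (Polynomial.mem_support_iff.2 hi.ne_zero)] at this
  exact hc0 _ hi this

/-- A point over a closed point is closed or generic in its fibre. -/
theorem isClosed_or_eq_fgen [IsIntegral X] [IsLocallyNoetherian X] [IsIntegral P] [IsLocallyNoetherian P] [∀ x, IsIntegral (p₁.fiber x)] [Flat p₁] {y : X} {z : P} (hy : IsClosed ({y} : Set X))
    (hzy : p₁ z = y) (hz : z ≠ ProdCl28.fgen p₁ y) : IsClosed ({z} : Set P) := by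
  let φ : CommRingCat.of k ⟶ X.residueField y := Spec.preimage (X.fromSpecResidueField y ≫ f)
  have hφ : Spec.map φ = X.fromSpecResidueField y ≫ f := Spec.map_preimage _
  let j := Spec.map (CommRingCat.ofHom (Polynomial.C : X.residueField y →+* Polynomial (X.residueField y)))
  let g := Spec.map (CommRingCat.ofHom (Polynomial.mapRingHom φ.hom))
  have hsq : IsPullback g j (line k) (Spec.map φ) := isPullback_line φ.hom
  have hw : (j ≫ X.fromSpecResidueField y) ≫ f = g ≫ line k := by
    rw [Category.assoc, ← hφ, hsq.w]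
  let m := hP.lift (j ≫ X.fromSpecResidueField y) g hw
  have hmf : m ≫ p₁ = j ≫ X.fromSpecResidueField y := hP.lift_fst _ _ _
  have hpb : IsPullback m j p₁ (X.fromSpecResidueField y) := by
    refine IsPullback.of_right ?_ hmf hP.flip
    rw [hP.lift_snd, ← hφ]
    exact hsq
  haveI : IsPreimmersion m := MorphismProperty.of_isPullback hpb.flip
    (inferInstanceAs (IsPreimmersion (X.fromSpecResidueField y)))
  obtain ⟨pt⟩ : Nonempty ↥(Spec (X.residueField y)) := inferInstance
  have hmem : ∀ w : P, p₁ w = y → w ∈ Set.range m := fun w hw' => by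
    obtain ⟨t, ht, -⟩ := Scheme.exists_preimage_of_isPullback hpb w pt
      (by rw [hw', Scheme.fromSpecResidueField_apply])
    exact ⟨t, ht⟩
  have hover : ∀ t, p₁ (m t) = y := fun t => by
    rw [← Scheme.Hom.comp_apply, hmf, Scheme.Hom.comp_apply, Scheme.fromSpecResidueField_apply]
  obtain ⟨t, rfl⟩ := hmem z hzy
  have ht : (t : PrimeSpectrum (Polynomial (X.residueField y))).asIdeal ≠ ⊥ := by
    intro h0
    have hs : ∀ t', t ⤳ t' := fun t' => (PrimeSpectrum.le_iff_specializes _ t').1 (by
      show (t : PrimeSpectrum (Polynomial (X.residueField y))).asIdeal ≤ _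
      rw [h0]; exact bot_le)
    obtain ⟨t', ht'⟩ := hmem (ProdCl28.fgen p₁ y) (ProdCl28.p_fgen _ _)
    have h1 : m t ⤳ ProdCl28.fgen p₁ y := ht' ▸ (hs t').map m.continuous
    have h2 := ProdCl28.fgen_specializes p₁ (m t)
    rw [hover t] at h2
    exact hz (h1.antisymm h2).eq
  refine isClosed_of_closure_subset fun w hw' => ?_
  have hs : m t ⤳ w := specializes_iff_mem_closure.2 hw'
  have hpw : p₁ w = y := by
    have := specializes_iff_mem_closure.1 (hs.map p₁.continuous)
    rw [hover t, hy.closure_eq] at this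
    exact this
  obtain ⟨t', rfl⟩ := hmem w hpw
  have hts : t ⤳ t' := m.isEmbedding.toIsInducing.specializes_iff.1 hs
  have hle := (PrimeSpectrum.le_iff_specializes t t').2 hts
  haveI hmax : (t : PrimeSpectrum (Polynomial (X.residueField y))).asIdeal.IsMaximal :=
    IsPrime.to_maximal_ideal ht
  have : t = t' := PrimeSpectrum.ext (hmax.eq_of_le (Ideal.IsPrime.ne_top inferInstance) hle)
  rw [this]
  rfl

end Groth.Agent.Vert28
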